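import Cfsg.Agent.H474.CJ.SpSix
import Cfsg.Agent.H417.Two.Co3Seven

/-!
# S4792: the row of `Co₃` (helper474)

`x = Z y` with `y` of order seven in `C(Z) = 2·Sp₆(2)` : `C(x) = ⟨x⟩`, and the fixed space of `Z`, a representation of `Sp₆(2)`,
contains a fixed vector of `y`.
-/

set_option autoImplicit false

namespace Cfsg.Agent.H474.CJ.CoThree

open Subgroup Cfsg Cfsg.Agent.H430.Conj
open Cfsg.Agent.SporRec.TwoSp6.Sp (S)
open Cfsg.Agent.SporRec.Co3.Chain (G3 isCo3_G3)
open Cfsg.Agent.SporRec.Co3.Ident (Z)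
open Cfsg.Agent.H555.TwoSp (finite_G3)
open Cfsg.Agent.H417.Two.Co3Seven

universe u

theorem row_G3 : Row G3 := by
  have hfin := finite_G3
  have hsim : IsSimpleGroup G3 := isCo3_G3.1
  have h7 : Fact (Nat.Prime 7) := ⟨by norm_num⟩
  have hna : ¬ IsMulCommutative G3 := by
    intro h
    let _ : CommGroup G3 := { (inferInstance : Group G3) with mul_comm := fun a b => h.is_comm.comm a b }
    have h2 : (Nat.card G3).Prime := IsSimpleGroup.prime_card
    rw [card_G3] at h2
    revert h2
    norm_num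
  obtain ⟨π, N⟩ := Cfsg.Agent.KFacts.Co3D4.exists_NS_G3
  have hZZ : (Z : G3) * Z = 1 := congrArg Subtype.val N.z_sq
  have hZ1 : (Z : G3) ≠ 1 := fun h => N.z_ne (Subtype.ext h)
  -- the element of order seven
  obtain ⟨c0, hc0⟩ := N.surj SpSix.y
  have h14 : c0 ^ 14 = 1 := by
    have h1 : π (c0 ^ 7) = 1 := by rw [map_pow, hc0, SpSix.y_pow]
    rcases N.ker _ h1 with h2 | h2
    · rw [show (14 : ℕ) = 7 * 2 by norm_num, pow_mul, h2, one_pow]
    · rw [show (14 : ℕ) = 7 * 2 by norm_num, pow_mul, h2, pow_two]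
      exact N.z_sq
  have hπy : π (c0 ^ 8) = SpSix.y := by
    rw [map_pow, hc0, show (8 : ℕ) = 7 + 1 by norm_num, pow_succ, SpSix.y_pow, one_mul]
  have hy7 : (c0 ^ 8) ^ 7 = 1 := by
    rw [← pow_mul, show 8 * 7 = 14 * 4 by norm_num, pow_mul, h14, one_pow]
  have hy1 : c0 ^ 8 ≠ 1 := by
    intro h
    rw [h, map_one] at hπy
    exact SpSix.y_ne hπy.symm
  obtain ⟨y, hy⟩ : ∃ y, y = c0 ^ 8 := ⟨_, rfl⟩
  rw [← hy] at hπy hy7 hy1
  have hyo : orderOf y = 7 := orderOf_eq_prime hy7 hy1
  have hyo' : orderOf (y : G3) = 7 := by rw [Subgroup.orderOf_coe, hyo]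
  have hyZ : (y : G3) * Z = Z * y := mem_centralizer_singleton_iff.1 y.2
  refine row_of_cent hna hZZ hZ1 π N.surj ?_ y (by rw [hπy]; exact SpSix.fixIn_y) ?_
  · intro c hc
    rcases N.ker _ hc with h | h
    · rw [h]; exact one_mem _
    · rw [h]; exact mem_zpowers Z
  · intro c hc
    -- `c` commutes with `Z` and `y`
    have hcy : Commute c (y : G3) := by
      have h1 : Commute c ((Z * (y : G3)) ^ 8) := (show Commute c (Z * y) from hc).pow_right 8
      have h2 : (Z * (y : G3)) ^ 8 = y := by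
        rw [(show Commute (Z : G3) (y : G3) from hyZ.symm).mul_pow]
        have h3 : (Z : G3) ^ 8 = 1 := by
          rw [show (8 : ℕ) = 2 * 4 by norm_num, pow_mul, pow_two, hZZ, one_pow]
        have h4 : (y : G3) ^ 8 = y := by
          rw [show (8 : ℕ) = 7 + 1 by norm_num, pow_succ, ← hyo', pow_orderOf_eq_one, one_mul]
        rw [h3, h4, one_mul]
      rwa [h2] at h1
    have hcZ : c * Z = Z * c := by
      have h1 : c * (Z * y) = Z * y * c := hc
      have h2 : c * y = y * c := hcy.eq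
      have h3 : c * Z * y = Z * c * y := by rw [mul_assoc, h1, mul_assoc, mul_assoc, h2]
      exact mul_right_cancel h3
    have hcm : c ∈ centralizer ({Z} : Set G3) := mem_centralizer_singleton_iff.2 hcZ
    refine ⟨hcm, ?_⟩
    -- the centralizer of `Z y`
    let D : Subgroup G3 := centralizer ({Z} : Set G3) ⊓ centralizer ({(y : G3)} : Set G3)
    have hD42 : Nat.card D ∣ 42 := by
      have h1 := Subgroup.card_dvd_of_le (inf_le_right : D ≤ centralizer ({(y : G3)} : Set G3))
      rwa [card_cent hyo'] at h1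
    have hD3 : ¬ 3 ∣ Nat.card D := by
      intro h
      have h3 : Fact (Nat.Prime 3) := ⟨by norm_num⟩
      obtain ⟨t, ht⟩ := exists_prime_orderOf_dvd_card' (G := D) 3 h
      have ht1 : (t : G3) ^ 3 = 1 := by
        rw [← Subgroup.coe_pow, ← ht, pow_orderOf_eq_one]
        rfl
      have ht2 := no21 (x := (y : G3)) (p := (t : G3)) hyZ (mem_centralizer_singleton_iff.1 t.2.1) hyo' ht1
        (mem_centralizer_singleton_iff.1 t.2.2).symm
      have ht3 : t = 1 := Subtype.ext ht2
      rw [ht3, orderOf_one] at ht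
      omega
    have hD14 : Nat.card D ∣ 14 := by
      have h1 : Nat.Coprime (Nat.card D) 3 := ((Nat.Prime.coprime_iff_not_dvd (by norm_num)).2 hD3).symm
      exact Nat.Coprime.dvd_of_dvd_mul_right h1 (by simpa using hD42)
    have hcD : c ∈ D := ⟨hcm, mem_centralizer_singleton_iff.2 hcy.eq⟩
    -- the image in `Sp₆(2)`
    have h2D : Nat.card (D.subgroupOf (centralizer ({Z} : Set G3))) = Nat.card D :=
      Nat.card_congr (subgroupOfEquivOfLe inf_le_left).toEquiv
    let E : Subgroup S := (D.subgroupOf (centralizer ({Z} : Set G3))).map π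
    have hE : Nat.card E ∣ 14 := by
      refine (Subgroup.card_map_dvd _ π).trans ?_
      rw [h2D]
      exact hD14
    have hyE : SpSix.y ∈ E := ⟨y, mem_subgroupOf.2 ⟨y.2, mem_centralizer_singleton_iff.2 rfl⟩, hπy⟩
    have hcE : π ⟨c, hcm⟩ ∈ E := ⟨⟨c, hcm⟩, mem_subgroupOf.2 hcD, rfl⟩
    -- no involution of `E`
    have hE2 : ¬ 2 ∣ Nat.card E := by
      intro h
      have h2 : Fact (Nat.Prime 2) := ⟨Nat.prime_two⟩
      obtain ⟨t, ht⟩ := exists_prime_orderOf_dvd_card' (G := E) 2 h
      obtain ⟨d, hd, hdt⟩ := t.2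
      have h3 : (t : S) * t = 1 := by
        have h4 : t * t = 1 := by
          have h4' := pow_orderOf_eq_one t
          rwa [ht, pow_two] at h4'
        exact congrArg Subtype.val h4
      have h5 : SpSix.y * (t : S) = t * SpSix.y := by
        rw [← hdt, ← hπy, ← map_mul, ← map_mul]
        congr 1
        exact Subtype.ext (mem_centralizer_singleton_iff.1 (mem_subgroupOf.1 hd).2).symm
      have h6 := Cfsg.Agent.H555.TwoSp.SpSeven.no_inv SpSix.orderOf_y h3 h5
      have h7' : t = 1 := Subtype.ext h6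
      rw [h7', orderOf_one] at ht
      omega
    have hE7 : Nat.card E ∣ 7 := by
      have h1 : Nat.Coprime (Nat.card E) 2 := ((Nat.Prime.coprime_iff_not_dvd Nat.prime_two).2 hE2).symm
      exact Nat.Coprime.dvd_of_dvd_mul_right h1 (by simpa using hE)
    have hEy : zpowers SpSix.y = E := by
      apply eq_of_le_of_card_ge (zpowers_le.2 hyE)
      rw [Nat.card_zpowers, SpSix.orderOf_y]
      exact Nat.le_of_dvd (by norm_num) hE7
    rw [hπy, hEy]
    exact hcE

set_option linter.unusedVariables false in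
/-- **S4792: the row of `Co₃`.** -/
theorem row_co3 {G : Type u} [Group G] [Finite G] (hs : IsSimpleGroup G) (h : Spor.IsoCo3 G) : Row G := by
  obtain ⟨e⟩ := h
  have hfin := finite_G3
  exact Row.of_equiv (Cfsg.Agent.SporRec.Co3.Model.equivCo3.trans e.symm) row_G3

end Cfsg.Agent.H474.CJ.CoThree
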